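import Mathlib
import Groth.Prelude.Def_FlatFun
import Groth.Prelude.Def_QuotSh
import Groth.Agent.Lib.Helper12.FlatFunLim
import Groth.Agent.Lib.Helper12.FlatMod4
import Groth.Agent.Lib.Helper29.QCohPullbackSupp

/-! # Descent of properties of maps of quasi-coherent modules along flat jointly surjective
families, and the sheaf property of sub-functors of the final functor. -/

set_option autoImplicit false
universe u

open CategoryTheory CategoryTheory.Limits AlgebraicGeometry TopologicalSpace Opposite TensorProduct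
open Groth.Agent.Lib.Helper29.QCoh Groth.Agent.Lib.Helper12.H12FlatLim

namespace Groth.Agent.Lib.Helper2.FpqcDesc

section Sheaf

/-- A stable condition on schemes over `S` which descends along the covering families of a
precoverage `K` generates a sub-presheaf of the final presheaf which is a sheaf for the
topology generated by `K`. -/
theorem isSheaf_genPSp {S : Scheme.{u}} (K : Precoverage Scheme.{u}) [K.HasIsos]
    [K.IsStableUnderBaseChange] [K.IsStableUnderComposition]
    (P : Over S → Prop) (hP : ∀ ⦃T T₀ : Over S⦄ (_ : T ⟶ T₀), P T₀ → P T)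
    (hdesc : ∀ (T : Over S) (R : Presieve T.left), R ∈ K T.left →
      (∀ ⦃Z : Scheme.{u}⦄ (g : Z ⟶ T.left), R g → P (Over.mk (g ≫ T.hom))) → P T) :
    Presheaf.IsSheaf (QuotSh.J K S) (FlatFun.genPSp S P) := by
  rw [isSheaf_iff_isSheaf_of_type]
  intro T R hR
  rw [GrothendieckTopology.mem_over_iff,
    Precoverage.mem_toGrothendieck_iff_of_isStableUnderComposition] at hR
  obtain ⟨R', hR', hle⟩ := hR
  intro x hx
  have hT : P T := by
    apply hdesc T R' hR'
    intro Z g hg
    have h1 := (Sieve.overEquiv_iff _ _).mp (hle _ _ hg)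
    exact (FlatFun.genPSp_nonempty_iff_of_stable P hP _).mp ⟨x _ h1⟩
  obtain ⟨t⟩ := FlatFun.genPSp_nonempty_of P hT
  refine ⟨t, ?_, ?_⟩
  · intro Y f hf
    exact Subsingleton.elim _ _
  · intro y _
    exact Subsingleton.elim _ _

end Sheaf

section Alg

/-- For a flat algebra `A → B`, a prime of `B` lying over a prime in the support of an
`A`-module `M` lies in the support of `B ⊗ M` (no finiteness assumption). -/
theorem mem_support_baseChange_of_flat {A B : Type u} [CommRing A] [CommRing B] [Algebra A B]
    [Module.Flat A B] (M : Type u) [AddCommGroup M] [Module A M] (q : PrimeSpectrum B)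
    (h : q.comap (algebraMap A B) ∈ Module.support A M) :
    q ∈ Module.support B (B ⊗[A] M) := by
  rw [Module.mem_support_iff_exists_annihilator] at h ⊢
  obtain ⟨m, hm⟩ := h
  refine ⟨(1 : B) ⊗ₜ[A] m, ?_⟩
  intro b hb
  rw [Submodule.mem_annihilator_span_singleton] at hb
  set I : Ideal A := (Submodule.span A {m}).annihilator with hI
  let j0 : A →ₗ[A] M := LinearMap.toSpanSingleton A M m
  have hIk : I ≤ LinearMap.ker j0 := by
    intro a ha
    rw [LinearMap.mem_ker]
    exact (Submodule.mem_annihilator_span_singleton m a).mp ha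
  let j : (A ⧸ I) →ₗ[A] M := Submodule.liftQ I j0 hIk
  have hj : Function.Injective j := by
    rw [← LinearMap.ker_eq_bot]
    apply Submodule.ker_liftQ_eq_bot
    intro a ha
    exact (Submodule.mem_annihilator_span_singleton m a).mpr (LinearMap.mem_ker.mp ha)
  have hj' := Module.Flat.lTensor_preserves_injective_linearMap (M := B) j hj
  have hj1 : j (Submodule.Quotient.mk 1) = m := by
    change j0 1 = m
    exact one_smul _ _
  have h0 : (b ⊗ₜ[A] (Submodule.Quotient.mk 1 : A ⧸ I) : B ⊗[A] (A ⧸ I)) = 0 := by
    apply hj'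
    rw [map_zero, LinearMap.lTensor_tmul, hj1, ← hb, TensorProduct.smul_tmul', smul_eq_mul, mul_one]
  have h1 := congrArg (TensorProduct.tensorQuotEquivQuotSMul B I) h0
  rw [map_zero] at h1
  have h1' : (Submodule.Quotient.mk b : B ⧸ (I • ⊤ : Submodule A B)) = 0 := by
    rw [← h1]
    have := TensorProduct.tensorQuotEquivQuotSMul_tmul_mk (M := B) I b 1
    rw [one_smul] at this
    exact this.symm
  have h2 : b ∈ (I • ⊤ : Submodule A B) := (Submodule.Quotient.mk_eq_zero _).mp h1'
  have h3 : (I • ⊤ : Submodule A B) ≤ q.asIdeal.restrictScalars A := by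
    rw [Submodule.smul_le]
    intro r hr n _
    have hr' : algebraMap A B r ∈ q.asIdeal := hm hr
    rw [Submodule.restrictScalars_mem, Algebra.smul_def]
    exact Ideal.mul_mem_right _ _ hr'
  exact h3 h2

end Alg

section Stalk
variable {X Y : Scheme.{u}}

/-- For flat `f`, if the stalk of `f^*F` at `x` vanishes then the stalk of `F` at `f x` vanishes
(`F` quasi-coherent, no finiteness). -/
theorem subsingleton_stalk_of_pullback_of_flat (f : X ⟶ Y) [Flat f] (F : Y.Modules)
    [F.IsQuasicoherent] (x : X)
    (h : Subsingleton (((Scheme.Modules.pullback f).obj F).presheaf.stalk x)) :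
    Subsingleton (F.presheaf.stalk (f x)) := by
  obtain ⟨U, V, hU, hV, hxU, hUV⟩ := exists_affine_pair f x
  rw [subsingleton_stalk_iff _ hU x hxU] at h
  rw [subsingleton_stalk_iff F hV (f x) (hUV hxU)]
  intro hmem
  apply h
  letI := (f.appLE V U hUV).hom.toAlgebra
  have hflat : Module.Flat Γ(Y, V) Γ(X, U) :=
    HasRingHomProperty.appLE (P := @Flat) f inferInstance ⟨V, hV⟩ ⟨U, hU⟩ hUV
  rw [(pullbackSectionsEquiv f F hU hV hUV).support_eq]
  apply mem_support_baseChange_of_flat
  have e : (hU.primeIdealOf ⟨x, hxU⟩).comap (algebraMap Γ(Y, V) Γ(X, U)) =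
      hV.primeIdealOf ⟨f x, hUV hxU⟩ := by
    apply PrimeSpectrum.ext
    rw [primeIdealOf_map_of_le f hV hU hUV x hxU]
    rfl
  rw [e]
  exact hmem

end Stalk

section Family
variable {Y : Scheme.{u}} {ι : Type*} (Yi : ι → Scheme.{u}) (h : ∀ i, Yi i ⟶ Y)
  (hfl : ∀ i, Flat (h i)) (hsurj : ∀ y : Y, ∃ i, y ∈ Set.range (h i))

include hfl hsurj

/-- A quasi-coherent module whose pullbacks along a flat jointly surjective family vanish is
zero. -/
theorem isZero_of_pullback (K : Y.Modules) [K.IsQuasicoherent]
    (hK : ∀ i, IsZero ((Scheme.Modules.pullback (h i)).obj K)) : IsZero K := by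
  rw [isZero_iff_stalk_subsingleton]
  intro y
  obtain ⟨i, x, rfl⟩ := hsurj y
  haveI := hfl i
  exact subsingleton_stalk_of_pullback_of_flat (h i) K x
    ((isZero_iff_stalk_subsingleton _).mp (hK i) x)

theorem epi_of_pullback {M N : Y.Modules} [M.IsQuasicoherent] [N.IsQuasicoherent] (v : M ⟶ N)
    (hv : ∀ i, Epi ((Scheme.Modules.pullback (h i)).map v)) : Epi v := by
  apply Preadditive.epi_of_isZero_cokernel
  apply isZero_of_pullback Yi h hfl hsurj
  intro i
  haveI := hv i
  exact (isZero_cokernel_of_epi ((Scheme.Modules.pullback (h i)).map v)).of_iso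
    (PreservesCokernel.iso (Scheme.Modules.pullback (h i)) v)

theorem mono_of_pullback {M N : Y.Modules} [M.IsQuasicoherent] [N.IsQuasicoherent] (v : M ⟶ N)
    (hv : ∀ i, Mono ((Scheme.Modules.pullback (h i)).map v)) : Mono v := by
  apply Preadditive.mono_of_isZero_kernel
  apply isZero_of_pullback Yi h hfl hsurj
  intro i
  haveI := hfl i
  have h0 := (mono_pullback_map_iff_of_flat (h i) v).mp (hv i)
  haveI : Mono ((Scheme.Modules.pullback (h i)).map (kernel.ι v)) :=
    mono_pullback_map_of_flat (h i) (kernel.ι v)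
  rw [IsZero.iff_id_eq_zero]
  apply (cancel_mono ((Scheme.Modules.pullback (h i)).map (kernel.ι v))).mp
  rw [h0, comp_zero, zero_comp]

theorem zero_of_pullback {M N : Y.Modules} [M.IsQuasicoherent] [N.IsQuasicoherent] (v : M ⟶ N)
    (hv : ∀ i, (Scheme.Modules.pullback (h i)).map v = 0) : v = 0 := by
  have hfac : Abelian.factorThruImage v ≫ Abelian.image.ι v = v := Abelian.image.fac v
  have hz : IsZero (Abelian.image v) := by
    apply isZero_of_pullback Yi h hfl hsurj
    intro i
    haveI := hfl i
    haveI : Mono ((Scheme.Modules.pullback (h i)).map (Abelian.image.ι v)) :=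
      mono_pullback_map_of_flat (h i) (Abelian.image.ι v)
    haveI : Epi ((Scheme.Modules.pullback (h i)).map (Abelian.factorThruImage v)) :=
      inferInstance
    have h1 : (Scheme.Modules.pullback (h i)).map (Abelian.image.ι v) = 0 := by
      apply (cancel_epi ((Scheme.Modules.pullback (h i)).map (Abelian.factorThruImage v))).mp
      rw [← Functor.map_comp, hfac, hv i, comp_zero]
    rw [IsZero.iff_id_eq_zero]
    apply (cancel_mono ((Scheme.Modules.pullback (h i)).map (Abelian.image.ι v))).mp
    rw [h1, comp_zero, zero_comp]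
  rw [← hfac, hz.eq_of_tgt (Abelian.factorThruImage v) 0, zero_comp]

theorem isIso_of_pullback {M N : Y.Modules} [M.IsQuasicoherent] [N.IsQuasicoherent] (v : M ⟶ N)
    (hv : ∀ i, IsIso ((Scheme.Modules.pullback (h i)).map v)) : IsIso v := by
  haveI := mono_of_pullback Yi h hfl hsurj v (fun i => by haveI := hv i; infer_instance)
  haveI := epi_of_pullback Yi h hfl hsurj v (fun i => by haveI := hv i; infer_instance)
  exact isIso_of_mono_of_epi v

end Family

end Groth.Agent.Lib.Helper2.FpqcDesc
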