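import Groth.Agent.Lib.Helper2.FpqcDesc.Over
import Groth.Agent.Lib.Helper10.FibreProductStalk
import Groth.Prelude.Def_FGA
import Groth.Prelude.Def_FlatMod2

/-! # fpqc descent of flatness of `F_T` over `T` -/

set_option autoImplicit false
universe u

open CategoryTheory CategoryTheory.Limits AlgebraicGeometry TopologicalSpace Opposite TensorProduct
open Groth.Agent.Lib.Helper29.QCoh Groth.Agent.Lib.Helper12.H12FlatLim
  Groth.Agent.Lib.Helper12.H12FlatFunLim Groth.Agent.Lib.Helper12.H12ModLim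

namespace Groth.Agent.Lib.Helper2.FpqcDesc

/-- Flatness over the base at a point is invariant under isomorphisms of modules. -/
theorem isFlatOverAt_of_iso {X S : Scheme.{u}} (f : X ⟶ S) {M N : X.Modules} (e : M ≅ N) (x : X)
    (h : FlatMod.IsFlatOverAt f M x) : FlatMod.IsFlatOverAt f N x := by
  letI := FlatMod.moduleStalkOver f M x
  letI := FlatMod.moduleStalkOver f N x
  have hM : Module.Flat (S.presheaf.stalk (f.base x)) (M.presheaf.stalk x) := h
  have h1 : ∀ t, stalkMap e.inv x (stalkMap e.hom x t) = t := fun t => by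
    have h0 : stalkMap e.hom x ≫ stalkMap e.inv x = 𝟙 _ :=
      (((stalkFunctor X x).map_comp e.hom e.inv).symm.trans
        (congrArg (stalkFunctor X x).map e.hom_inv_id)).trans ((stalkFunctor X x).map_id M)
    exact congrArg (fun φ => φ t) h0
  have h2 : ∀ t, stalkMap e.hom x (stalkMap e.inv x t) = t := fun t => by
    have h0 : stalkMap e.inv x ≫ stalkMap e.hom x = 𝟙 _ :=
      (((stalkFunctor X x).map_comp e.inv e.hom).symm.trans
        (congrArg (stalkFunctor X x).map e.inv_hom_id)).trans ((stalkFunctor X x).map_id N)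
    exact congrArg (fun φ => φ t) h0
  let E : (M.presheaf.stalk x) ≃ₗ[S.presheaf.stalk (f.base x)] (N.presheaf.stalk x) :=
    { toFun := fun t => stalkMap e.hom x t
      map_add' := fun a b => map_add _ a b
      map_smul' := fun r t => stalkMap_smul e.hom x ((f.stalkMap x).hom r) t
      invFun := fun t => stalkMap e.inv x t
      left_inv := h1
      right_inv := h2 }
  exact Module.Flat.of_linearEquiv E.symm

variable {X S : Scheme.{u}} (f : X ⟶ S) (F : X.Modules) [F.IsQuasicoherent]

theorem flatOver_stable ⦃T T₀ : Over S⦄ (g : T ⟶ T₀)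
    (h : FlatMod.IsFlatOver (PicF.XTproj f T₀) (FGA.ET f F T₀)) :
    FlatMod.IsFlatOver (PicF.XTproj f T) (FGA.ET f F T) := by
  intro x
  have h1 := Groth.Agent.Lib.Helper10.FibreProductStalk.isFlatOverAt_baseChange x (FGA.ET f F T₀)
    (XTmap_isPullback f g) (h _)
  exact isFlatOverAt_of_iso _ (FGA.ETiso f F g) x h1

theorem flatOver_desc (T : Over S) (R : Presieve T.left)
    (hR : R ∈ Scheme.fpqcPrecoverage T.left)
    (h : ∀ ⦃Z : Scheme.{u}⦄ (g : Z ⟶ T.left), R g →
      FlatMod.IsFlatOver (PicF.XTproj f (Over.mk (g ≫ T.hom))) (FGA.ET f F (Over.mk (g ≫ T.hom)))) :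
    FlatMod.IsFlatOver (PicF.XTproj f T) (FGA.ET f F T) := by
  intro y
  obtain ⟨⟨Z, g, hg⟩, p, rfl⟩ := surj_family f T R hR y
  haveI : Flat g := (mem_fpqc hR).1 _ hg
  have h1 := h g hg p
  have h2 := isFlatOverAt_of_iso _
    (FGA.ETiso f F (Over.homMk g : Over.mk (g ≫ T.hom) ⟶ T)).symm p h1
  exact Groth.Agent.Lib.Helper10.FibreProductStalk.isFlatOverAt_of_baseChange p (FGA.ET f F T)
    (XTmap_isPullback f (Over.homMk g : Over.mk (g ≫ T.hom) ⟶ T))
    (Flat.stalkMap g _) h2

end Groth.Agent.Lib.Helper2.FpqcDesc
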