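import Groth.Agent.Lib.Helper2.FpqcDesc.Basic

/-! # Descent of properties of base changes `u_T` along fpqc coverings of `T` -/

set_option autoImplicit false
universe u

open CategoryTheory CategoryTheory.Limits AlgebraicGeometry TopologicalSpace Opposite TensorProduct
open Groth.Agent.Lib.Helper29.QCoh Groth.Agent.Lib.Helper12.H12FlatLim
  Groth.Agent.Lib.Helper12.H12FlatFunLim Groth.Agent.Lib.Helper12.H12ModLim

namespace Groth.Agent.Lib.Helper2.FpqcDesc

theorem mem_fpqc {Y : Scheme.{u}} {R : Presieve Y} (hR : R ∈ Scheme.fpqcPrecoverage Y) :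
    (∀ ⦃Z : Scheme.{u}⦄ (g : Z ⟶ Y), R g → Flat g) ∧
      (∀ y : Y, ∃ (Z : Scheme.{u}) (g : Z ⟶ Y), R g ∧ y ∈ Set.range g) := by
  have h1 : R ∈ Scheme.precoverage @Flat Y :=
    (Scheme.propQCPrecoverage_le_precoverage (P := @Flat)) Y hR
  refine ⟨fun Z g hg => h1.2 hg, fun y => ?_⟩
  have h2 := h1.1
  rw [Scheme.jointlySurjectivePrecoverage,
    Presieve.mem_comap_jointlySurjectivePrecoverage_iff] at h2
  obtain ⟨Z, g, hg, hy⟩ := h2 y
  exact ⟨Z, g, hg, hy⟩

variable {X S : Scheme.{u}} (f : X ⟶ S)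

/-- The base change to `X` of a member of a covering family of `T`. -/
noncomputable abbrev bc (T : Over S) {Z : Scheme.{u}} (g : Z ⟶ T.left) :
    pullback f (g ≫ T.hom) ⟶ pullback f T.hom :=
  PicF.XTmap f (Over.homMk g : Over.mk (g ≫ T.hom) ⟶ T)

theorem bc_fst (T : Over S) {Z : Scheme.{u}} (g : Z ⟶ T.left) :
    bc f T g ≫ pullback.fst f T.hom = pullback.fst f (g ≫ T.hom) :=
  XTmap_fst f (Over.homMk g : Over.mk (g ≫ T.hom) ⟶ T)

theorem flat_bc (T : Over S) {Z : Scheme.{u}} (g : Z ⟶ T.left) [hg : Flat g] : Flat (bc f T g) := by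
  have h1 : Flat (Over.homMk g : Over.mk (g ≫ T.hom) ⟶ T).left := hg
  exact MorphismProperty.of_isPullback
    (XTmap_isPullback f (Over.homMk g : Over.mk (g ≫ T.hom) ⟶ T)).flip h1

theorem exists_bc_eq (T : Over S) {Z : Scheme.{u}} (g : Z ⟶ T.left)
    (y : (pullback f T.hom : Scheme.{u})) (hy : pullback.snd f T.hom y ∈ Set.range g) :
    y ∈ Set.range (bc f T g) := by
  obtain ⟨z, hz⟩ := hy
  obtain ⟨p, hp, -⟩ := Scheme.exists_preimage_of_isPullback
    (XTmap_isPullback f (Over.homMk g : Over.mk (g ≫ T.hom) ⟶ T)) y z hz.symm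
  exact ⟨p, hp⟩

section
variable (T : Over S) (R : Presieve T.left) (hR : R ∈ Scheme.fpqcPrecoverage T.left)
  {F G : X.Modules} [F.IsQuasicoherent] [G.IsQuasicoherent] (u : F ⟶ G)

/-- Index type of a presieve. -/
abbrev Idx : Type (u + 1) := Σ Z : Scheme.{u}, {g : Z ⟶ T.left // R g}

include hR

theorem flat_family (k : Idx T R) : Flat (bc f T k.2.1) := by
  haveI : Flat k.2.1 := (mem_fpqc hR).1 _ k.2.2
  exact flat_bc f T k.2.1

theorem surj_family (y : (pullback f T.hom : Scheme.{u})) :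
    ∃ k : Idx T R, y ∈ Set.range (bc f T k.2.1) := by
  obtain ⟨Z, g, hg, hy⟩ := (mem_fpqc hR).2 (pullback.snd f T.hom y)
  exact ⟨⟨Z, g, hg⟩, exists_bc_eq f T g y hy⟩

theorem zero_desc
    (h : ∀ ⦃Z : Scheme.{u}⦄ (g : Z ⟶ T.left), R g →
      (Scheme.Modules.pullback (pullback.fst f (g ≫ T.hom))).map u = 0) :
    (Scheme.Modules.pullback (pullback.fst f T.hom)).map u = 0 := by
  apply zero_of_pullback (fun k : Idx T R => pullback f (k.2.1 ≫ T.hom))
    (fun k => bc f T k.2.1) (flat_family f T R hR) (surj_family f T R hR)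
  intro k
  have := h k.2.1 k.2.2
  have h2 := (pullback_map_comp_eq_zero_iff (bc f T k.2.1) (pullback.fst f T.hom)
    (pullback.fst f (k.2.1 ≫ T.hom)) (bc_fst f T k.2.1) u).mpr this
  exact h2

theorem epi_desc
    (h : ∀ ⦃Z : Scheme.{u}⦄ (g : Z ⟶ T.left), R g →
      Epi ((Scheme.Modules.pullback (pullback.fst f (g ≫ T.hom))).map u)) :
    Epi ((Scheme.Modules.pullback (pullback.fst f T.hom)).map u) := by
  apply epi_of_pullback (fun k : Idx T R => pullback f (k.2.1 ≫ T.hom))
    (fun k => bc f T k.2.1) (flat_family f T R hR) (surj_family f T R hR)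
  intro k
  exact (epi_pullback_map_comp_iff (bc f T k.2.1) (pullback.fst f T.hom)
    (pullback.fst f (k.2.1 ≫ T.hom)) (bc_fst f T k.2.1) u).mpr (h k.2.1 k.2.2)

theorem isIso_desc
    (h : ∀ ⦃Z : Scheme.{u}⦄ (g : Z ⟶ T.left), R g →
      IsIso ((Scheme.Modules.pullback (pullback.fst f (g ≫ T.hom))).map u)) :
    IsIso ((Scheme.Modules.pullback (pullback.fst f T.hom)).map u) := by
  apply isIso_of_pullback (fun k : Idx T R => pullback f (k.2.1 ≫ T.hom))
    (fun k => bc f T k.2.1) (flat_family f T R hR) (surj_family f T R hR)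
  intro k
  exact (isIso_pullback_map_comp_iff (bc f T k.2.1) (pullback.fst f T.hom)
    (pullback.fst f (k.2.1 ≫ T.hom)) (bc_fst f T k.2.1) u).mpr (h k.2.1 k.2.2)

end

theorem mono_pullback_map_comp_iff {X Y Z : Scheme.{u}} (f : X ⟶ Y) (g : Y ⟶ Z) (h : X ⟶ Z)
    (w : f ≫ g = h) {M N : Z.Modules} (a : M ⟶ N) :
    Mono ((Scheme.Modules.pullback f).map ((Scheme.Modules.pullback g).map a)) ↔
      Mono ((Scheme.Modules.pullback h).map a) := by
  subst w
  exact (MorphismProperty.monomorphisms _).arrow_mk_iso_iff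
    (Arrow.isoMk ((Scheme.Modules.pullbackComp f g).app M) ((Scheme.Modules.pullbackComp f g).app N)
      ((Scheme.Modules.pullbackComp f g).hom.naturality a).symm)

section MonoIff
variable {X S : Scheme.{u}} (f : X ⟶ S) {F G : X.Modules} [F.IsQuasicoherent]
  [G.IsQuasicoherent] (u : F ⟶ G)

/-- Injectivity of `u_T` can be tested on a flat jointly surjective family `T_i → T`. -/
theorem mono_iff_of_cover (T : Over S) {ι : Type*} (Ti : ι → Over S) (g : ∀ i, Ti i ⟶ T)
    (hfl : ∀ i, Flat (g i).left) (hsurj : ∀ t : T.left, ∃ i, t ∈ Set.range (g i).left) :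
    Mono ((Scheme.Modules.pullback (pullback.fst f T.hom)).map u) ↔
      ∀ i, Mono ((Scheme.Modules.pullback (pullback.fst f (Ti i).hom)).map u) := by
  have hflat : ∀ i, Flat (PicF.XTmap f (g i)) := fun i =>
    MorphismProperty.of_isPullback (XTmap_isPullback f (g i)).flip (hfl i)
  constructor
  · intro hT i
    haveI := hflat i
    haveI := hT
    have h1 : Mono ((Scheme.Modules.pullback (PicF.XTmap f (g i))).map
        ((Scheme.Modules.pullback (pullback.fst f T.hom)).map u)) :=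
      mono_pullback_map_of_flat (PicF.XTmap f (g i)) _
    exact (mono_pullback_map_comp_iff (PicF.XTmap f (g i)) (pullback.fst f T.hom)
      (pullback.fst f (Ti i).hom) (XTmap_fst f (g i)) u).mp h1
  · intro h
    apply mono_of_pullback (fun i => pullback f (Ti i).hom) (fun i => PicF.XTmap f (g i)) hflat
    · intro y
      obtain ⟨i, z, hz⟩ := hsurj (pullback.snd f T.hom y)
      obtain ⟨p, hp, -⟩ := Scheme.exists_preimage_of_isPullback
        (XTmap_isPullback f (g i)) y z hz.symm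
      exact ⟨i, p, hp⟩
    · intro i
      exact (mono_pullback_map_comp_iff (PicF.XTmap f (g i)) (pullback.fst f T.hom)
        (pullback.fst f (Ti i).hom) (XTmap_fst f (g i)) u).mpr (h i)

end MonoIff

end Groth.Agent.Lib.Helper2.FpqcDesc
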